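import Groth.Agent.Neron.K490.WeilSm
import Groth.Agent.Etcore.SepClosedRed

/-!
# Quasi-compactness of Weil restrictions along purely inseparable extensions of height one
-/

set_option autoImplicit false
universe u

open CategoryTheory CategoryTheory.Limits AlgebraicGeometry Opposite TensorProduct MonoidalCategory
  CartesianMonoidalCategory MonObj

namespace Groth.Agent.K305.WeilQC

open K490.WeilSm K490.WeilSmAlg K933.WRAffine K933.WRFinite

/-- The Weil restriction of an affine scheme of finite type exists and is affine. -/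
theorem exists_affine (k k' : Type u) [Field k] [Field k'] [Algebra k k'] [Module.Finite k k']
    (X' : Over (Spec (CommRingCat.of k'))) [IsAffine X'.left]
    [LocallyOfFiniteType X'.hom] :
    ∃ W : Over (Spec (CommRingCat.of k)), IsAffine W.left ∧
      Nonempty ((WeilRes.functor (fA k k') X').RepresentableBy W) := by
  obtain ⟨φ, hφ⟩ := Spec.map_surjective (R := CommRingCat.of k') (S := Γ(X'.left, ⊤))
    (X'.left.isoSpec.inv ≫ X'.hom)
  let : Algebra k' Γ(X'.left, ⊤) := φ.hom.toAlgebra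
  obtain ⟨P, _, _, π, hπ, huniv⟩ := K933.WRAlg.exists_weil k k' Γ(X'.left, ⊤)
  have hU : IsUniv k k' Γ(X'.left, ⊤) P π := ⟨hπ, huniv⟩
  obtain ⟨r⟩ := representableBy_spec k k' hU
  let e : Over.mk (Spec.map (CommRingCat.ofHom (algebraMap k' Γ(X'.left, ⊤)))) ≅ X' :=
    Over.isoMk X'.left.isoSpec.symm (by
      change X'.left.isoSpec.inv ≫ X'.hom = Spec.map φ
      rw [hφ])
  exact ⟨spO k P, inferInstanceAs (IsAffine (Spec _)), ⟨r.ofIso (functorIso _ e)⟩⟩

theorem quasiCompact_weil (K E : Type u) [Field K] [Field E] [Algebra K E] [FiniteDimensional K E] (p : ℕ)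
    [Fact p.Prime] [CharP K p] (hE : ∀ e : E, ∃ c : K, algebraMap K E c = e ^ p)
    (X : Over (Spec (CommRingCat.of E))) [LocallyOfFiniteType X.hom] [QuasiCompact X.hom]
    (W : Over (Spec (CommRingCat.of K))) [LocallyOfFiniteType W.hom]
    (q : Red.bc (Spec.map (CommRingCat.ofHom (algebraMap K E))) W ⟶ X)
    (hW : WeilRes.IsWeilRes (Spec.map (CommRingCat.ofHom (algebraMap K E))) X W q) : QuasiCompact W.hom := by
  have hpi : IsPurelyInseparable K E := by
    rw [isPurelyInseparable_iff_pow_mem K p]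
    intro e
    obtain ⟨c, hc⟩ := hE e
    exact ⟨1, c, by rw [hc, pow_one]⟩
  let f := Spec.map (CommRingCat.ofHom (algebraMap K E))
  have hfin : IsFinite f := by
    rw [IsFinite.SpecMap_iff]
    exact RingHom.finite_algebraMap.mpr inferInstance
  obtain ⟨-, hinj, hsurj⟩ := Etcore.SepClosedRed.bc_spec K E (IsPullback.of_hasPullback W.hom f)
  have hinj' : Function.Injective (pullback.fst W.hom f) := (pullback.fst W.hom f).injective
  have hcomp : CompactSpace X.left := (quasiCompact_iff_compactSpace X.hom).1 inferInstance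
  have key : ∀ x : X.left, ∃ U : X.left.Opens, x ∈ U ∧ ∃ A : Set W.left, IsCompact A ∧
      ∀ v : ↥(Red.bc f W).left, q.left v ∈ U → pullback.fst W.hom f v ∈ A := by
    intro x
    obtain ⟨U, hU, hxU⟩ : ∃ U : X.left.Opens, IsAffineOpen U ∧ x ∈ U := by
      obtain ⟨_, ⟨U, hU, rfl⟩, hxU, -⟩ :=
        X.left.isBasis_affineOpens.exists_subset_of_mem_open (Set.mem_univ x) isOpen_univ
      exact ⟨U, hU, hxU⟩
    let N₀ : Over (Spec (CommRingCat.of E)) := Over.mk (U.ι ≫ X.hom)
    let j : N₀ ⟶ X := Over.homMk U.ι rfl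
    have hj : IsOpenImmersion j.left := inferInstanceAs (IsOpenImmersion U.ι)
    have haff : IsAffine N₀.left := hU
    have hsm : LocallyOfFiniteType N₀.hom := inferInstanceAs (LocallyOfFiniteType (U.ι ≫ X.hom))
    obtain ⟨W₀, hW₀a, ⟨r⟩⟩ := exists_affine K E N₀
    have hW₀ := WeilRes.IsWeilRes.of_representableBy r
    obtain ⟨-, h2⟩ := K487.WeilOpen.weil_open j hW hW₀ (pullback.fst W.hom f).isClosedMap
    refine ⟨U, hxU, Set.range (hW.lift W₀ (r.homEquiv (𝟙 W₀) ≫ j)).left,
      isCompact_range (hW.lift W₀ (r.homEquiv (𝟙 W₀) ≫ j)).left.continuous, ?_⟩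
    intro v hv
    rw [h2]
    intro v' hv'
    obtain rfl := hinj' hv'
    change q.left v' ∈ Set.range U.ι
    rw [Scheme.Opens.range_ι]
    exact hv
  choose U hU A hA hUA using key
  obtain ⟨t, ht⟩ := isCompact_univ.elim_finite_subcover (fun x => (U x : Set X.left)) (fun x => (U x).isOpen)
    (fun x _ => Set.mem_iUnion.2 ⟨x, hU x⟩)
  have h3 : IsCompact (⋃ x ∈ t, A x) := t.isCompact_biUnion fun x _ => hA x
  rw [quasiCompact_iff_compactSpace]
  refine ⟨?_⟩
  convert h3
  refine (Set.eq_univ_of_forall fun w => ?_).symm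
  obtain ⟨v, rfl⟩ := hsurj.surj w
  obtain ⟨x, hx, hv⟩ := Set.mem_iUnion₂.1 (ht (Set.mem_univ (q.left v)))
  exact Set.mem_iUnion₂.2 ⟨x, hx, hUA x v hv⟩

end Groth.Agent.K305.WeilQC
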